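import Mathlib.CategoryTheory.Limits.Types.Colimits
import Mathlib.CategoryTheory.Limits.Types.Limits
import Mathlib.CategoryTheory.IsConnected
import Mathlib.Data.Fintype.Sigma
import Mathlib.CategoryTheory.FinCategory.Basic
import Mathlib.CategoryTheory.Limits.FunctorCategory.Basic
import Mathlib.CategoryTheory.Limits.Preserves.Limits

/-!
# Colimits of sets over categories with the span condition (almost filtered categories)
-/

universe w v u

open CategoryTheory CategoryTheory.Limits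

namespace Groth.Agent.AlmostFiltered

variable {I : Type u} [Category.{v} I]

/-- The span condition. -/
def Span (I : Type u) [Category.{v} I] : Prop :=
  ∀ ⦃x y z : I⦄ (f : x ⟶ y) (g : x ⟶ z), ∃ (w : I) (f' : y ⟶ w) (g' : z ⟶ w), f ≫ f' = g ≫ g'

/-- The coequalising condition. -/
def Coeq (I : Type u) [Category.{v} I] : Prop :=
  ∀ ⦃x y : I⦄ (a b : x ⟶ y), ∃ (z : I) (c : y ⟶ z), a ≫ c = b ≫ c

/-- Having a common successor. -/
def Joined (x y : I) : Prop := ∃ z : I, Nonempty (x ⟶ z) ∧ Nonempty (y ⟶ z)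

lemma Joined.refl (x : I) : Joined x x := ⟨x, ⟨𝟙 x⟩, ⟨𝟙 x⟩⟩

lemma Joined.symm {x y : I} (h : Joined x y) : Joined y x := by
  obtain ⟨z, a, b⟩ := h; exact ⟨z, b, a⟩

lemma Joined.trans (hs : Span I) {x y z : I} (h : Joined x y) (h' : Joined y z) : Joined x z := by
  obtain ⟨a, ⟨f⟩, ⟨g⟩⟩ := h
  obtain ⟨b, ⟨f'⟩, ⟨g'⟩⟩ := h'
  obtain ⟨c, p, q, -⟩ := hs g f'
  exact ⟨c, ⟨f ≫ p⟩, ⟨g' ≫ q⟩⟩

lemma joined_of_zigzag (hs : Span I) {x y : I} (h : Zigzag x y) : Joined x y := by
  induction h with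
  | refl => exact Joined.refl _
  | @tail b c _ hbc ih =>
    refine ih.trans hs ?_
    rcases hbc with ⟨⟨f⟩⟩ | ⟨⟨f⟩⟩
    · exact ⟨c, ⟨f⟩, ⟨𝟙 c⟩⟩
    · exact ⟨b, ⟨𝟙 b⟩, ⟨f⟩⟩

/-- A finite pairwise joined family has a common successor. -/
lemma exists_common {α : Type w} (hs : Span I) (f : α → I) (a₀ : α) (h : ∀ a, Joined (f a₀) (f a)) (s : Finset α) :
    ∃ (z : I) (_ : f a₀ ⟶ z), ∀ a ∈ s, Nonempty (f a ⟶ z) := by
  classical
  induction s using Finset.induction_on with
  | empty => exact ⟨f a₀, 𝟙 _, by simp⟩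
  | @insert a s _ ih =>
    obtain ⟨z, u, hz⟩ := ih
    obtain ⟨w, ⟨p⟩, ⟨q⟩⟩ := h a
    obtain ⟨t, c, d, -⟩ := hs u p
    refine ⟨t, u ≫ c, fun b hb => ?_⟩
    rcases Finset.mem_insert.1 hb with rfl | hb
    · exact ⟨q ≫ d⟩
    · exact (hz b hb).map fun k => k ≫ c

variable {F : I ⥤ Type w} [HasColimit F]

/-- Equality in the colimit. -/
lemma colimit_eq_iff (hs : Span I) {i j : I} (x : F.obj i) (y : F.obj j) :
    colimit.ι F i x = colimit.ι F j y ↔ ∃ (k : I) (f : i ⟶ k) (g : j ⟶ k), F.map f x = F.map g y := by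
  constructor
  · intro h
    let R : (Σ i, F.obj i) → (Σ i, F.obj i) → Prop :=
      fun p q => ∃ (k : I) (f : p.1 ⟶ k) (g : q.1 ⟶ k), F.map f p.2 = F.map g q.2
    suffices ∀ p q, Relation.EqvGen F.ColimitTypeRel p q → R p q from this _ _ (Types.colimit_eq h)
    intro p q hpq
    induction hpq with
    | rel p q hpq =>
      obtain ⟨f, hf⟩ := hpq
      exact ⟨q.1, f, 𝟙 _, by simp [hf]⟩
    | refl p => exact ⟨p.1, 𝟙 _, 𝟙 _, rfl⟩
    | symm p q _ ih =>
      obtain ⟨k, f, g, h⟩ := ih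
      exact ⟨k, g, f, h.symm⟩
    | trans p q r _ _ ih ih' =>
      obtain ⟨k, f, g, h⟩ := ih
      obtain ⟨k', f', g', h'⟩ := ih'
      obtain ⟨m, c, d, e⟩ := hs g f'
      refine ⟨m, f ≫ c, g' ≫ d, ?_⟩
      rw [Functor.map_comp_apply, Functor.map_comp_apply, h, ← h', ← Functor.map_comp_apply, e,
        Functor.map_comp_apply]
  · rintro ⟨k, f, g, h⟩
    rw [← colimit.w F f, ← colimit.w F g]
    exact congrArg (colimit.ι F k) h

/-- For two parallel elements which agree in the colimit, a single map equalises them. -/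
lemma colimit_eq_same (hs : Span I) (hc : Coeq I) {i : I} (x y : F.obj i)
    (h : colimit.ι F i x = colimit.ι F i y) : ∃ (k : I) (u : i ⟶ k), F.map u x = F.map u y := by
  obtain ⟨k, f, g, e⟩ := (colimit_eq_iff hs x y).1 h
  obtain ⟨m, c, hfg⟩ := hc f g
  refine ⟨m, f ≫ c, ?_⟩
  conv_rhs => rw [hfg]
  rw [Functor.map_comp_apply, Functor.map_comp_apply, e]

lemma colim_map_ι {F G : I ⥤ Type w} [HasColimitsOfShape I (Type w)] (φ : F ⟶ G) (i : I) (x : F.obj i) :
    (colim : (I ⥤ Type w) ⥤ Type w).map φ (colimit.ι F i x) = colimit.ι G i (φ.app i x) :=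
  ConcreteCategory.congr_hom (colimit.ι_map φ i) x

theorem preservesLimitsOfShape_colim {I : Type w} [SmallCategory I] (hs : Span I) (hc : Coeq I)
    (J : Type) [SmallCategory J] [FinCategory J] [IsConnected J] :
    PreservesLimitsOfShape J (colim : (I ⥤ Type w) ⥤ Type w) := by
  classical
  refine ⟨fun {K} => preservesLimit_of_preserves_limit_cone (limit.isLimit K) ((Types.isLimit_iff _).2 ?_).some⟩
  intro s hs'
  have hK : ∀ i : I, ∀ t ∈ (K ⋙ (evaluation I (Type w)).obj i).sections,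
      ∃! x : (limit K).obj i, ∀ j, (limit.π K j).app i x = t j := fun i t ht =>
    (Types.isLimit_iff (((evaluation I (Type w)).obj i).mapCone (limit.cone K))).1
      ⟨isLimitOfPreserves _ (limit.isLimit K)⟩ t ht
  have hnat : ∀ {j j' : J} (f : j ⟶ j') {i i' : I} (u : i ⟶ i') (x : (K.obj j).obj i),
      (K.obj j').map u ((K.map f).app i x) = (K.map f).app i' ((K.obj j).map u x) := fun f i i' u x =>
    (ConcreteCategory.congr_hom ((K.map f).naturality u) x).symm
  choose iJ xJ hx using fun j => Types.jointly_surjective' (s j)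
  have hedge : ∀ {j j' : J} (f : j ⟶ j'),
      colimit.ι (K.obj j') (iJ j) ((K.map f).app (iJ j) (xJ j)) = colimit.ι (K.obj j') (iJ j') (xJ j') := by
    intro j j' f
    rw [← colim_map_ι, hx, hx]
    exact hs' f
  obtain ⟨j₀⟩ := (inferInstance : Nonempty J)
  have hj : ∀ j, Joined (iJ j₀) (iJ j) := fun j =>
    induct_on_objects (fun j => Joined (iJ j₀) (iJ j)) (Joined.refl _) (fun {j₁ j₂} f => by
      obtain ⟨k, a, b, -⟩ := (colimit_eq_iff hs _ _).1 (hedge f)
      exact ⟨fun h => h.trans hs ⟨k, ⟨a⟩, ⟨b⟩⟩, fun h => h.trans hs ⟨k, ⟨b⟩, ⟨a⟩⟩⟩) j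
  obtain ⟨z, u₀, hz⟩ := exists_common hs iJ j₀ hj Finset.univ
  let y : ∀ j, (K.obj j).obj z := fun j => (K.obj j).map (hz j (Finset.mem_univ j)).some (xJ j)
  have hy : ∀ j, colimit.ι (K.obj j) z (y j) = s j := fun j =>
    (ConcreteCategory.congr_hom (colimit.w (K.obj j) (hz j (Finset.mem_univ j)).some) (xJ j)).trans (hx j)
  have heq : ∀ E : Finset (Σ j j' : J, j ⟶ j'), ∃ (m : I) (w : z ⟶ m), ∀ e ∈ E,
      (K.map e.2.2).app m ((K.obj e.1).map w (y e.1)) = (K.obj e.2.1).map w (y e.2.1) := by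
    intro E
    induction E using Finset.induction_on with
    | empty => exact ⟨z, 𝟙 z, by simp⟩
    | @insert e E _ ih =>
      obtain ⟨m, w, hw⟩ := ih
      have h1 : colimit.ι (K.obj e.2.1) m ((K.map e.2.2).app m ((K.obj e.1).map w (y e.1))) =
          colimit.ι (K.obj e.2.1) m ((K.obj e.2.1).map w (y e.2.1)) := by
        rw [← colim_map_ι, colimit.w_apply (K.obj e.1) w, colimit.w_apply (K.obj e.2.1) w, hy, hy]
        exact hs' e.2.2
      obtain ⟨m', v, hv⟩ := colimit_eq_same hs hc _ _ h1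
      refine ⟨m', w ≫ v, fun e' he' => ?_⟩
      rcases Finset.mem_insert.1 he' with rfl | he'
      · rw [Functor.map_comp_apply, Functor.map_comp_apply, ← hnat, hv]
      · rw [Functor.map_comp_apply, Functor.map_comp_apply, ← hnat, hw e' he']
  obtain ⟨m, w, hw⟩ := heq Finset.univ
  obtain ⟨ξ, hξ, -⟩ := hK m (fun j => (K.obj j).map w (y j)) (fun {j j'} f => hw ⟨j, j', f⟩ (Finset.mem_univ _))
  refine ⟨colimit.ι (limit K) m ξ, fun j => ?_, fun a ha => ?_⟩
  · show (colim : (I ⥤ Type w) ⥤ Type w).map (limit.π K j) (colimit.ι (limit K) m ξ) = s j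
    rw [colim_map_ι, hξ, colimit.w_apply, hy]
  · obtain ⟨i, x, rfl⟩ := Types.jointly_surjective' a
    have hx' : ∀ j, colimit.ι (K.obj j) i ((limit.π K j).app i x) =
        colimit.ι (K.obj j) m ((limit.π K j).app m ξ) := fun j => by
      rw [← colim_map_ι, hξ, colimit.w_apply, hy]
      exact ha j
    obtain ⟨k, p, q, -⟩ := (colimit_eq_iff hs _ _).1 (hx' j₀)
    have hn : ∀ (j : J) {i i' : I} (r : i ⟶ i') (x : (limit K).obj i),
        (limit.π K j).app i' ((limit K).map r x) = (K.obj j).map r ((limit.π K j).app i x) := fun j i i' r x =>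
      ConcreteCategory.congr_hom ((limit.π K j).naturality r) x
    have hex : ∀ E : Finset J, ∃ (l : I) (r : k ⟶ l), ∀ j ∈ E,
        (limit.π K j).app l ((limit K).map (p ≫ r) x) = (limit.π K j).app l ((limit K).map (q ≫ r) ξ) := by
      intro E
      induction E using Finset.induction_on with
      | empty => exact ⟨k, 𝟙 k, by simp⟩
      | @insert e E _ ih =>
        obtain ⟨l, r, hr⟩ := ih
        have h1 : colimit.ι (K.obj e) l ((limit.π K e).app l ((limit K).map (p ≫ r) x)) =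
            colimit.ι (K.obj e) l ((limit.π K e).app l ((limit K).map (q ≫ r) ξ)) := by
          rw [hn, hn, colimit.w_apply, colimit.w_apply]
          exact hx' e
        obtain ⟨l', v, hv⟩ := colimit_eq_same hs hc _ _ h1
        refine ⟨l', r ≫ v, fun e' he' => ?_⟩
        rw [← Category.assoc, ← Category.assoc, Functor.map_comp_apply (limit K) (p ≫ r) v,
          Functor.map_comp_apply (limit K) (q ≫ r) v, hn e' v, hn e' v]
        rcases Finset.mem_insert.1 he' with rfl | he'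
        · exact hv
        · rw [hr e' he']
    obtain ⟨l, r, hr⟩ := hex Finset.univ
    refine (colimit_eq_iff hs _ _).2 ⟨l, p ≫ r, q ≫ r, ?_⟩
    obtain ⟨t, -, huniq⟩ := hK l (fun j => (limit.π K j).app l ((limit K).map (q ≫ r) ξ)) (fun {j j'} f =>
      ConcreteCategory.congr_hom (NatTrans.congr_app (limit.w K f) l) _)
    exact (huniq _ (fun j => hr j (Finset.mem_univ j))).trans (huniq _ (fun j => rfl)).symm

end Groth.Agent.AlmostFiltered
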